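import Groth.Prelude.Def_BrSev2

/-!
# Morphisms from natural maps on affine points
-/

set_option autoImplicit false
set_option backward.isDefEq.respectTransparency.types false

universe u

open CategoryTheory CategoryTheory.Limits AlgebraicGeometry

namespace Groth.Agent.BrSev29

variable {k : Type u} [Field k] {X : Scheme.{u}} {f : X ⟶ Spec (CommRingCat.of k)}

theorem exists_algebra {R : Type u} [CommRing R] (g : Spec (CommRingCat.of R) ⟶ Spec (CommRingCat.of k)) :
    ∃ (_ : Algebra k R), g = Spec.map (CommRingCat.ofHom (algebraMap k R)) := by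
  obtain ⟨φ, rfl⟩ := Spec.map_surjective g
  exact ⟨φ.hom.toAlgebra, rfl⟩

theorem exists_algHom {R S : Type u} [CommRing R] [Algebra k R] [CommRing S] [Algebra k S]
    (j : Spec (CommRingCat.of S) ⟶ Spec (CommRingCat.of R))
    (hj : j ≫ Spec.map (CommRingCat.ofHom (algebraMap k R)) = Spec.map (CommRingCat.ofHom (algebraMap k S))) :
    ∃ φ : R →ₐ[k] S, j = Spec.map (CommRingCat.ofHom (φ : R →+* S)) := by
  obtain ⟨φ, rfl⟩ := Spec.map_surjective j
  rw [← Spec.map_comp] at hj
  exact ⟨{ φ.hom with commutes' := fun r => congrArg (fun h => h.hom r) (Spec.map_injective hj) }, rfl⟩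

/-- Morphisms out of `X` are determined on affine points. -/
theorem hom_ext_pts {Z : Scheme.{u}} (a b : X ⟶ Z)
    (h : ∀ (R : Type u) [CommRing R] [Algebra k R] (P : BrSev.Pts f R), P.1 ≫ a = P.1 ≫ b) : a = b := by
  refine X.affineOpenCover.openCover.hom_ext _ _ fun i => ?_
  obtain ⟨hR, e⟩ := exists_algebra (k := k) (X.affineOpenCover.f i ≫ f)
  exact h _ ⟨X.affineOpenCover.f i, e⟩

variable (η : ∀ (R : Type u) [CommRing R] [Algebra k R], BrSev.Pts f R → BrSev.Pts f R)
  (hη : ∀ (R S : Type u) [CommRing R] [Algebra k R] [CommRing S] [Algebra k S] (φ : R →ₐ[k] S) (P : BrSev.Pts f R),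
    η S (BrSev.Pts.map f φ P) = BrSev.Pts.map f φ (η R P))

include hη in
theorem comp_eq_of_eq {R R' S : Type u} [CommRing R] [Algebra k R] [CommRing R'] [Algebra k R'] [CommRing S]
    (P : BrSev.Pts f R) (P' : BrSev.Pts f R')
    (a : Spec (CommRingCat.of S) ⟶ Spec (CommRingCat.of R)) (b : Spec (CommRingCat.of S) ⟶ Spec (CommRingCat.of R'))
    (h : a ≫ P.1 = b ≫ P'.1) : a ≫ (η R P).1 = b ≫ (η R' P').1 := by
  obtain ⟨hS, e⟩ := exists_algebra (k := k) (a ≫ Spec.map (CommRingCat.ofHom (algebraMap k R)))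
  have e' : b ≫ Spec.map (CommRingCat.ofHom (algebraMap k R')) = Spec.map (CommRingCat.ofHom (algebraMap k S)) := by
    rw [← e, ← P.2, ← P'.2, ← Category.assoc, ← Category.assoc, h]
  obtain ⟨φ, rfl⟩ := exists_algHom a e
  obtain ⟨ψ, rfl⟩ := exists_algHom b e'
  have := congrArg Subtype.val
    (((hη R S φ P).symm.trans (congrArg (η S) (Subtype.ext h : BrSev.Pts.map f φ P = BrSev.Pts.map f ψ P'))).trans
      (hη R' S ψ P'))
  exact this

include hη in
/-- A natural map on affine points comes from an endomorphism. -/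
theorem exists_hom_of_natural :
    ∃ h : X ⟶ X, h ≫ f = f ∧ ∀ (R : Type u) [CommRing R] [Algebra k R] (P : BrSev.Pts f R), P.1 ≫ h = (η R P).1 := by
  choose alg halg using fun i => exists_algebra (k := k) (X.affineOpenCover.f i ≫ f)
  let P₀ : ∀ i, @BrSev.Pts k _ X f (X.affineOpenCover.X i) _ (alg i) := fun i => ⟨X.affineOpenCover.f i, halg i⟩
  let u : ∀ i, Spec (X.affineOpenCover.X i) ⟶ X := fun i => (@η (X.affineOpenCover.X i) _ (alg i) (P₀ i)).1
  let h : X ⟶ X := X.affineOpenCover.openCover.glueMorphisms u fun i j => by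
    refine (pullback (X.affineOpenCover.openCover.f i) (X.affineOpenCover.openCover.f j)).affineOpenCover.openCover.hom_ext
      _ _ fun l => ?_
    refine (Category.assoc _ _ _).symm.trans (Eq.trans ?_ (Category.assoc _ _ _))
    refine @comp_eq_of_eq k _ X f η hη (X.affineOpenCover.X i) (X.affineOpenCover.X j)
      ((pullback (X.affineOpenCover.openCover.f i) (X.affineOpenCover.openCover.f j)).affineOpenCover.X l)
      _ (alg i) _ (alg j) _ (P₀ i) (P₀ j) _ _ ?_
    exact (Category.assoc _ _ _).trans ((congrArg (_ ≫ ·) pullback.condition).trans (Category.assoc _ _ _).symm)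
  have key : ∀ (R : Type u) [CommRing R] [Algebra k R] (P : BrSev.Pts f R), P.1 ≫ h = (η R P).1 := by
    intro R _ _ P
    refine Scheme.Cover.hom_ext (X.affineOpenCover.openCover.pullback₁ P.1) _ _ fun i => ?_
    refine (pullback P.1 (X.affineOpenCover.openCover.f i)).affineOpenCover.openCover.hom_ext _ _ fun l => ?_
    have hi : X.affineOpenCover.openCover.f i ≫ h = u i := X.affineOpenCover.openCover.ι_glueMorphisms u _ i
    show _ ≫ pullback.fst _ _ ≫ P.1 ≫ h = _ ≫ pullback.fst _ _ ≫ (η R P).1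
    rw [pullback.condition_assoc, hi, ← Category.assoc, ← Category.assoc]
    refine @comp_eq_of_eq k _ X f η hη (X.affineOpenCover.X i) R
      ((pullback P.1 (X.affineOpenCover.openCover.f i)).affineOpenCover.X l)
      _ (alg i) _ ‹_› _ (P₀ i) P _ _ ?_
    exact (Category.assoc _ _ _).trans ((congrArg (_ ≫ ·) pullback.condition.symm).trans (Category.assoc _ _ _).symm)
  refine ⟨h, hom_ext_pts (f := f) _ _ fun R _ _ P => ?_, key⟩
  rw [← Category.assoc, key, P.2, (η R P).2]

end Groth.Agent.BrSev29
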