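import Groth.Agent.BrSev29.UnitsAction
import Groth.Agent.BrSev29.PtsHom

/-!
# Units of the algebra act on its Severi–Brauer scheme
-/

set_option autoImplicit false
set_option backward.isDefEq.respectTransparency.types false

universe u

open CategoryTheory CategoryTheory.Limits AlgebraicGeometry
open scoped TensorProduct

namespace Groth.Agent.BrSev29

variable {k A : Type u} [Field k] [Ring A] [Algebra k A] {c : ℕ}
  {X : Scheme.{u}} {f : X ⟶ Spec (CommRingCat.of k)} (σ : BrSev.SBStr k A c f)

variable (S : Type u) [CommRing S] [Algebra k S]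

/-- `a ↦ 1 ⊗ a`. -/
noncomputable def unitHom : Aˣ →* (S ⊗[k] A)ˣ :=
  Units.map ((Algebra.TensorProduct.includeRight : A →ₐ[k] S ⊗[k] A) : A →* S ⊗[k] A)

theorem coe_unitHom (a : Aˣ) : ((unitHom S a : (S ⊗[k] A)ˣ) : S ⊗[k] A) = (1 : S) ⊗ₜ[k] (a : A) := rfl

/-- The action of a unit on points. -/
noncomputable def actPts (a : Aˣ) (P : BrSev.Pts f S) : BrSev.Pts f S :=
  (σ.bij S).symm (twist (unitHom S a) (σ.bij S P))

variable {S}

theorem actPts_map {T : Type u} [CommRing T] [Algebra k T] (φ : S →ₐ[k] T) (a : Aˣ) (P : BrSev.Pts f S) :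
    actPts σ T a (BrSev.Pts.map f φ P) = BrSev.Pts.map f φ (actPts σ S a P) := by
  apply (σ.bij T).injective
  refine Subtype.ext (Module.Grassmannian.ext ?_)
  rw [σ.natural, actPts, actPts, Equiv.apply_symm_apply, Equiv.apply_symm_apply,
    map_twist φ _ _ _ (σ.natural S T φ P)]
  congr 3
  exact Units.ext (by simp [coe_unitHom, coeffHom])

theorem exists_actHom (a : Aˣ) :
    ∃ h : X ⟶ X, h ≫ f = f ∧ ∀ (R : Type u) [CommRing R] [Algebra k R] (P : BrSev.Pts f R), P.1 ≫ h = (actPts σ R a P).1 :=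
  exists_hom_of_natural (fun R _ _ => actPts σ R a) fun _ _ _ _ _ _ φ P => actPts_map σ φ a P

/-- The endomorphism of a unit. -/
noncomputable def actHom (a : Aˣ) : X ⟶ X := (exists_actHom σ a).choose

theorem actHom_over (a : Aˣ) : actHom σ a ≫ f = f := (exists_actHom σ a).choose_spec.1

theorem comp_actHom (a : Aˣ) {R : Type u} [CommRing R] [Algebra k R] (P : BrSev.Pts f R) :
    P.1 ≫ actHom σ a = (actPts σ R a P).1 := (exists_actHom σ a).choose_spec.2 R P

theorem actHom_mul (a b : Aˣ) : actHom σ (a * b) = actHom σ b ≫ actHom σ a := by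
  refine hom_ext_pts (f := f) _ _ fun R _ _ P => ?_
  rw [← Category.assoc, comp_actHom, comp_actHom, comp_actHom, actPts, actPts, actPts, Equiv.apply_symm_apply,
    map_mul, twist_mul]

theorem actHom_one : actHom σ 1 = 𝟙 X := by
  refine hom_ext_pts (f := f) _ _ fun R _ _ P => ?_
  rw [Category.comp_id, comp_actHom, actPts, map_one, twist_one, Equiv.symm_apply_apply]

/-- The automorphism of a unit. -/
noncomputable def autHom : Aˣ →* Aut (Over.mk f) where
  toFun a :=
    Over.isoMk ⟨actHom σ a, actHom σ a⁻¹, by rw [← actHom_mul, inv_mul_cancel, actHom_one],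
      by rw [← actHom_mul, mul_inv_cancel, actHom_one]⟩ (actHom_over σ a)
  map_one' := Iso.ext (Over.OverMorphism.ext (actHom_one σ))
  map_mul' a b := Iso.ext (Over.OverMorphism.ext (actHom_mul σ a b))

theorem autHom_left (a : Aˣ) : (autHom σ a).hom.left = actHom σ a := rfl

end Groth.Agent.BrSev29
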