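import Mathlib

/-!
# Primitive vectors of polynomials, scaling, linear forms
-/

set_option autoImplicit false

universe u

open MvPolynomial

namespace Groth.Agent.BrSev29

/-- No prime divides all entries. -/
def IsPrimitiveVec {R : Type*} [CommRing R] {ι : Type*} (F : ι → R) : Prop :=
  ∀ π : R, Prime π → ∃ l, ¬ π ∣ F l

theorem IsPrimitiveVec.dvd_of_dvd_mul {R : Type*} [CommRing R] [IsDomain R] [UniqueFactorizationMonoid R]
    {ι : Type*} {F : ι → R} (hF : IsPrimitiveVec F) {a : R} (ha : a ≠ 0) :
    ∀ {b : R}, (∀ l, a ∣ b * F l) → a ∣ b := by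
  induction a using UniqueFactorizationMonoid.induction_on_prime with
  | h₁ => exact absurd rfl ha
  | h₂ u hu => exact fun _ => hu.dvd
  | h₃ a π ha0 hπ ih =>
    intro b hb
    obtain ⟨l, hl⟩ := hF π hπ
    obtain ⟨b', rfl⟩ := (hπ.dvd_or_dvd ((dvd_mul_right π a).trans (hb l))).resolve_right hl
    refine mul_dvd_mul_left π (ih ha0 fun l' => ?_)
    have h := hb l'
    rw [mul_assoc] at h
    exact (mul_dvd_mul_iff_left hπ.ne_zero).1 h

variable {σ : Type*} {K : Type u} [Field K]

/-- A vector over the fraction field is proportional to a primitive vector of polynomials. -/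
theorem exists_primitive {ι : Type*} [Finite ι] {L : Type u} [Field L] [Algebra (MvPolynomial σ K) L]
    [IsFractionRing (MvPolynomial σ K) L] (w : ι → L) {j : ι} (hj : w j ≠ 0) :
    ∃ (F : ι → MvPolynomial σ K) (a : L), a ≠ 0 ∧ F j ≠ 0 ∧ IsPrimitiveVec F ∧
      ∀ l, algebraMap (MvPolynomial σ K) L (F l) = a * w l := by
  classical
  let C' : ℕ → Prop := fun n => ∃ (F : ι → MvPolynomial σ K) (a : L), a ≠ 0 ∧ (F j).totalDegree = n ∧
    ∀ l, algebraMap (MvPolynomial σ K) L (F l) = a * w l
  have hC : ∃ n, C' n := by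
    obtain ⟨b, hb⟩ := IsLocalization.exist_integer_multiples_of_finite (nonZeroDivisors (MvPolynomial σ K)) w
    choose F hF using hb
    refine ⟨_, F, algebraMap (MvPolynomial σ K) L (b : MvPolynomial σ K), fun h => ?_, rfl, fun l => ?_⟩
    · rw [← map_zero (algebraMap (MvPolynomial σ K) L)] at h
      exact nonZeroDivisors.coe_ne_zero b (IsFractionRing.injective _ L h)
    · rw [hF l, Algebra.smul_def]
  obtain ⟨F, a, ha, hdeg, hF⟩ := Nat.find_spec hC
  have hFj : F j ≠ 0 := fun h => mul_ne_zero ha hj (by rw [← hF j, h, map_zero])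
  refine ⟨F, a, ha, hFj, fun π hπ => ?_, hF⟩
  by_contra! h
  choose F' hF' using h
  have hπ' : algebraMap (MvPolynomial σ K) L π ≠ 0 := fun h0 =>
    hπ.ne_zero (IsFractionRing.injective _ L (h0.trans (map_zero _).symm))
  have hlt : (F' j).totalDegree < Nat.find hC := by
    have hF'j : F' j ≠ 0 := fun h0 => hFj (by rw [hF' j, h0, mul_zero])
    rw [← hdeg, hF' j, totalDegree_mul_of_isDomain hπ.ne_zero hF'j]
    refine Nat.lt_add_of_pos_left (Nat.pos_of_ne_zero fun h0 => hπ.not_unit ?_)
    rw [totalDegree_eq_zero_iff_eq_C] at h0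
    rw [h0]
    refine (IsUnit.mk0 _ fun hc => hπ.ne_zero ?_).map C
    rw [h0, hc, map_zero]
  refine Nat.find_min hC hlt ⟨F', a / algebraMap (MvPolynomial σ K) L π, div_ne_zero ha hπ', rfl, fun l => ?_⟩
  rw [div_mul_eq_mul_div, eq_div_iff hπ', ← hF l, hF' l, map_mul, mul_comm]

/-- `X ↦ λ X`. -/
noncomputable def scaleHom : MvPolynomial σ K →+* Polynomial (MvPolynomial σ K) :=
  eval₂Hom (Polynomial.C.comp C) fun l => Polynomial.X * Polynomial.C (X l)

theorem coeff_scaleHom (f : MvPolynomial σ K) (e : ℕ) :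
    (scaleHom f).coeff e = homogeneousComponent e f := by
  classical
  induction f using MvPolynomial.induction_on' with
  | add a b ha hb => rw [map_add, Polynomial.coeff_add, ha, hb, map_add]
  | monomial s c =>
    have h : scaleHom (monomial s c) = Polynomial.C (monomial s c) * Polynomial.X ^ s.degree := by
      rw [scaleHom, eval₂Hom_monomial, monomial_eq, map_mul, RingHom.comp_apply, map_finsuppProd, Finsupp.degree,
        Finsupp.prod, Finsupp.prod, mul_assoc]
      simp only [Finset.sum_apply, map_pow, mul_pow, Finset.prod_mul_distrib, AddMonoidHom.coe_mk, ZeroHom.coe_mk,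
        Finset.prod_pow_eq_pow_sum]
      ring
    rw [h, Polynomial.coeff_C_mul_X_pow]
    have hm : monomial s c ∈ homogeneousSubmodule σ K s.degree := isHomogeneous_monomial c rfl
    rw [homogeneousComponent_of_mem hm]

/-- A degree one form is linear. -/
theorem eq_sum_of_degree_one {n : ℕ} (f : MvPolynomial (Fin n) K) (hf : f.IsHomogeneous 1) :
    f = ∑ r, C (coeff (Finsupp.single r 1) f) * X r := by
  classical
  refine MvPolynomial.ext _ _ fun s => ?_
  simp only [coeff_sum, coeff_C_mul, coeff_X', mul_ite, mul_one, mul_zero]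
  by_cases hs : ∃ r, Finsupp.single r 1 = s
  · obtain ⟨r, rfl⟩ := hs
    rw [Finset.sum_eq_single r]
    · rw [if_pos rfl]
    · intro r' _ hr'
      exact if_neg fun h => hr' (Finsupp.single_left_injective one_ne_zero h)
    · simp
  · rw [Finset.sum_eq_zero fun r _ => if_neg fun h => hs ⟨r, h⟩]
    refine hf.coeff_eq_zero fun h => hs ?_
    obtain ⟨r, hr⟩ : s ∈ Set.range fun r : Fin n => Finsupp.single r 1 := by
      rw [Finsupp.range_single_one]; exact h
    exact ⟨r, hr⟩

end Groth.Agent.BrSev29
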