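import Groth.Agent.BrSev29.PointSystem
import Groth.Agent.BrSev29.Forms

/-!
# Automorphisms of projective space are linear
-/

set_option autoImplicit false
set_option backward.isDefEq.respectTransparency.types false

universe u

open CategoryTheory CategoryTheory.Limits AlgebraicGeometry MvPolynomial

namespace Groth.Agent.BrSev29

namespace PtSys

variable {m : ℕ} {K : Type u} [Field K] {Y : Scheme.{u}} {p : Y ⟶ Spec (CommRingCat.of K)} [IsSeparated p]
  (P : PtSys m K p)

local notation "A" => MvPolynomial (Fin (m + 1)) K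

/-- `F` describes the endomorphism `φ` in homogeneous coordinates. -/
structure IsForm (φ : Y ⟶ Y) (F : Fin (m + 1) → MvPolynomial (Fin (m + 1)) K) : Prop where
  prim : IsPrimitiveVec F
  exists_notMem : ∀ 𝔭 : Ideal (MvPolynomial (Fin (m + 1)) K), 𝔭.IsPrime → (∃ i, X i ∉ 𝔭) → ∃ j, F j ∉ 𝔭
  rep : ∀ (T : Type u) [CommRing T] (q : K →+* T) (ψ : MvPolynomial (Fin (m + 1)) K →+* T), ψ.comp C = q →
    ∀ (g : Spec (CommRingCat.of T) ⟶ Y), P.Rep q g (fun l => ψ (X l)) →
    ∀ j, IsUnit (ψ (F j)) → P.Rep q (g ≫ φ) (fun l => ψ (F l))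

variable {P}

/-- The common zeros of a primitive description are irrelevant. -/
theorem exists_notMem_aux {L : Type u} [Field L] [Algebra A L] [IsFractionRing A L] {i : Fin (m + 1)}
    {T : Type u} [CommRing T] [Algebra A T] [IsLocalization.Away (X i : A) T]
    (φ : Y ⟶ Y) (hφ : φ ≫ p = p) {F : Fin (m + 1) → A} (hprim : IsPrimitiveVec F) (hne0 : ∃ j, F j ≠ 0)
    (η : Spec (CommRingCat.of L) ⟶ Y) (hη : P.Rep ((algebraMap A L).comp C) η (fun l => algebraMap A L (X l)))
    (hwF : P.Rep ((algebraMap A L).comp C) (η ≫ φ) (fun l => algebraMap A L (F l)))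
    {𝔭 : Ideal A} (h𝔭 : 𝔭.IsPrime) (hi : X i ∉ 𝔭) : ∃ j, F j ∉ 𝔭 := by
  classical
  obtain ⟨j₀, hFj₀⟩ := hne0
  let α : A →+* L := algebraMap A L
  have hα : Function.Injective α := IsFractionRing.injective A L
  have hX : ∀ l : Fin (m + 1), α (X l) ≠ 0 := fun l h => X_ne_zero l (hα (h.trans (map_zero α).symm))
  have hTu : IsUnit (algebraMap A T (X i)) := IsLocalization.Away.algebraMap_isUnit (X i : A)
  obtain ⟨b, hb⟩ := hTu.exists_left_inv
  let pi := P.y T ((algebraMap A T).comp C) i (fun l => b * algebraMap A T (X l)) hb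
  have hpi : P.Rep ((algebraMap A T).comp C) pi (fun l => algebraMap A T (X l)) := ⟨i, b, hb, rfl⟩
  obtain ⟨⟨x, hx⟩, hxe⟩ : ∃ x : PrimeSpectrum T, x.asIdeal.comap (algebraMap A T) = 𝔭 := by
    obtain ⟨x, hx⟩ := (PrimeSpectrum.localization_away_comap_range T (X i : A)).ge
      (show (⟨𝔭, h𝔭⟩ : PrimeSpectrum A) ∈ _ from hi)
    exact ⟨x, congrArg PrimeSpectrum.asIdeal hx⟩
  obtain ⟨f, hf, j, v, hv, e⟩ := P.loc T ((algebraMap A T).comp C) (pi ≫ φ)
    (by rw [Category.assoc, hφ, hpi.lies]) ⟨x, hx⟩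
  let β : T →+* L := IsLocalization.Away.lift (X i : A) (g := α) (isUnit_iff_ne_zero.2 (hX i))
  have hβ : ∀ r, β (algebraMap A T r) = α r := fun r => IsLocalization.Away.lift_eq _ _ r
  obtain ⟨n, f₀, hf₀⟩ : ∃ (n : ℕ) (f₀ : A), f * algebraMap A T (X i) ^ n = algebraMap A T f₀ :=
    IsLocalization.Away.surj (X i : A) f
  have hf₀𝔭 : f₀ ∉ 𝔭 := fun h => by
    rw [← hxe, Ideal.mem_comap, ← hf₀] at h
    exact (hx.mem_or_mem h).elim hf fun h' => hi (hxe ▸ Ideal.mem_comap.2 (hx.mem_of_pow_mem _ h'))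
  have hβf : β f ≠ 0 := fun h => hf₀𝔭 (by
    have h1 := congrArg β hf₀
    rw [map_mul, h, zero_mul, hβ] at h1
    rw [hα (h1.symm.trans (map_zero α).symm)]
    exact zero_mem _)
  let γ : Localization.Away f →+* L := Localization.awayLift β f (isUnit_iff_ne_zero.2 hβf)
  have hγ : ∀ r, γ (algebraMap T _ r) = β r := fun r => IsLocalization.Away.lift_eq _ _ r
  have hγC : γ.comp ((algebraMap T (Localization.Away f)).comp ((algebraMap A T).comp C)) = α.comp C :=
    RingHom.ext fun r => by simp only [RingHom.comp_apply, hγ, hβ]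
  have hv' := (P.rep_y (q := (algebraMap T (Localization.Away f)).comp ((algebraMap A T).comp C)) j v hv).map γ hγC
  have hη' : Spec.map (CommRingCat.ofHom β) ≫ pi = η := by
    refine Rep.eq (hpi.map β (q' := α.comp C) (RingHom.ext fun r => hβ _)) (?_ : P.Rep (α.comp C) η _)
    simp only [hβ]
    exact hη
  have hsplit : Spec.map (CommRingCat.ofHom γ) ≫ Spec.map (CommRingCat.ofHom (algebraMap T (Localization.Away f))) =
      Spec.map (CommRingCat.ofHom β) := by
    rw [← Spec.map_comp, ← CommRingCat.ofHom_comp, show γ.comp (algebraMap T (Localization.Away f)) = β from RingHom.ext hγ]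
  have hpt : Spec.map (CommRingCat.ofHom γ) ≫ P.y (Localization.Away f) ((algebraMap T (Localization.Away f)).comp ((algebraMap A T).comp C)) j v hv = η ≫ φ := by
    rw [← e, ← Category.assoc, hsplit, ← Category.assoc, hη']
  rw [hpt] at hv'
  obtain ⟨d, hd⟩ := hv'.proportional hwF
  have hFj : α (F j) = d := by rw [hd j, hv, map_one, mul_one]
  refine ⟨j, ?_⟩
  -- clear denominators
  have hden : ∀ l, ∃ D B : A, D ∉ 𝔭 ∧ D * F l = F j * B := fun l => by
    obtain ⟨s, b', hb'⟩ := IsLocalization.Away.surj f (v l)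
    obtain ⟨t, B, hB⟩ := IsLocalization.Away.surj (X i : A) b'
    refine ⟨f₀ ^ s * X i ^ t, B * X i ^ (n * s), fun h => (h𝔭.mem_or_mem h).elim
      (fun h' => hf₀𝔭 (h𝔭.mem_of_pow_mem _ h')) (fun h' => hi (h𝔭.mem_of_pow_mem _ h')), hα ?_⟩
    have h1 := congrArg γ hb'
    rw [map_mul, map_pow, hγ, hγ] at h1
    have h2 := congrArg β hB
    rw [map_mul, map_pow, hβ, hβ] at h2
    have h3 := congrArg β hf₀
    rw [map_mul, map_pow, hβ, hβ] at h3
    rw [map_mul, map_mul, map_mul, map_mul, map_pow, map_pow, map_pow, hd l, ← hFj, ← h2, ← h1, ← h3]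
    ring
  choose D B hD hDB using hden
  intro hmem
  have hprod : ∀ l, F j ∣ (∏ l', D l') * F l := fun l => by
    rw [← Finset.mul_prod_erase _ _ (Finset.mem_univ l), mul_right_comm, hDB l, mul_assoc]
    exact dvd_mul_right _ _
  have hne : F j ≠ 0 := fun h => by
    have hz : ∀ l, α (F l) = 0 := fun l => by rw [hd l, ← hFj, h, map_zero, zero_mul]
    exact hFj₀ (hα ((hz j₀).trans (map_zero α).symm))
  obtain ⟨r, hr⟩ := hprim.dvd_of_dvd_mul hne hprod
  obtain ⟨l, -, hl⟩ := h𝔭.prod_mem_iff.1 (show (∏ l', D l') ∈ 𝔭 by rw [hr]; exact Ideal.mul_mem_right _ _ hmem)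
  exact hD l hl

theorem exists_isForm (φ : Y ⟶ Y) (hφ : φ ≫ p = p) : ∃ F, P.IsForm φ F := by
  classical
  let L := FractionRing A
  let α : A →+* L := algebraMap A L
  have hα : Function.Injective α := IsFractionRing.injective A L
  have hX : ∀ l : Fin (m + 1), α (X l) ≠ 0 := fun l h => X_ne_zero l (hα (h.trans (map_zero α).symm))
  -- the generic point
  let η := P.y L (α.comp C) 0 (fun l => (α (X 0))⁻¹ * α (X l)) (inv_mul_cancel₀ (hX 0))
  have hη : P.Rep (α.comp C) η (fun l => α (X l)) := ⟨0, _, inv_mul_cancel₀ (hX 0), rfl⟩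
  obtain ⟨w, hw⟩ := P.exists_rep (α.comp C) (η ≫ φ) (by rw [Category.assoc, hφ, hη.lies])
  obtain ⟨j₀, c, hc, -⟩ := id hw
  obtain ⟨F, a, ha, hFj₀, hprim, hF⟩ :=
    exists_primitive (σ := Fin (m + 1)) (K := K) (L := L) w (right_ne_zero_of_mul_eq_one hc)
  have hwF : P.Rep (α.comp C) (η ≫ φ) (fun l => α (F l)) := by
    have h := hw.smul (isUnit_iff_ne_zero.2 ha)
    simpa only [← hF] using h
  -- the common zeros of `F` are irrelevant
  have hnot : ∀ 𝔭 : Ideal A, 𝔭.IsPrime → (∃ i, X i ∉ 𝔭) → ∃ j, F j ∉ 𝔭 := by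
    rintro 𝔭 h𝔭 ⟨i, hi⟩
    exact exists_notMem_aux (T := Localization.Away (X i : A)) φ hφ hprim ⟨j₀, hFj₀⟩ η hη hwF h𝔭 hi
  refine ⟨F, hprim, hnot, fun T _ q ψ hψ g hg j hj => ?_⟩
  obtain ⟨i, c, hc, -⟩ := id hg
  have hi : IsUnit (ψ (X i)) := IsUnit.of_mul_eq_one_right c hc
  -- the universal point
  by_cases hFj : F j = 0
  · rw [hFj, map_zero, isUnit_zero_iff] at hj
    haveI := subsingleton_of_zero_eq_one hj
    refine ⟨0, 1, Subsingleton.elim _ _, ?_⟩
    haveI : IsEmpty (Spec (CommRingCat.of T) : Scheme) := inferInstanceAs (IsEmpty (PrimeSpectrum T))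
    exact (isInitialOfIsEmpty (X := Spec (CommRingCat.of T))).hom_ext _ _
  let U := Localization.Away (X i * F j : A)
  have hne : X i * F j ≠ 0 := mul_ne_zero (X_ne_zero i) hFj
  haveI : IsDomain U := IsLocalization.isDomain_localization (powers_le_nonZeroDivisors_of_noZeroDivisors hne)
  have hu : IsUnit (algebraMap A U (X i * F j)) := IsLocalization.Away.algebraMap_isUnit (X i * F j : A)
  rw [map_mul, IsUnit.mul_iff] at hu
  obtain ⟨b, hb⟩ := hu.1.exists_left_inv
  obtain ⟨b', hb'⟩ := hu.2.exists_left_inv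
  let qU := (algebraMap A U).comp C
  let gU := P.y U qU i (fun l => b * algebraMap A U (X l)) hb
  have hgU : P.Rep qU gU (fun l => algebraMap A U (X l)) := ⟨i, b, hb, rfl⟩
  let hU := P.y U qU j (fun l => b' * algebraMap A U (F l)) hb'
  have hhU : P.Rep qU hU (fun l => algebraMap A U (F l)) := ⟨j, b', hb', rfl⟩
  have key : gU ≫ φ = hU := by
    let δ : U →+* L := Localization.awayLift α (X i * F j)
      (isUnit_iff_ne_zero.2 fun h => hne (hα (h.trans (map_zero α).symm)))
    have hδ : ∀ r, δ (algebraMap A U r) = α r := fun r => IsLocalization.Away.lift_eq _ _ r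
    have hδC : δ.comp qU = α.comp C := RingHom.ext fun r => hδ _
    have hδinj : Function.Injective δ :=
      IsLocalization.lift_injective_iff _ |>.2 fun x y => ⟨fun h => congrArg α
        (IsLocalization.injective U (powers_le_nonZeroDivisors_of_noZeroDivisors hne) h), fun h => congrArg _ (hα h)⟩
    haveI : IsDominant (Spec.map (CommRingCat.ofHom δ)) :=
      ⟨(PrimeSpectrum.denseRange_comap_iff_ker_le_nilRadical δ).2
        (((RingHom.injective_iff_ker_eq_bot δ).1 hδinj).trans_le bot_le)⟩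
    refine ext_of_isDominant_of_isSeparated p ?_ (Spec.map (CommRingCat.ofHom δ)) ?_
    · rw [Category.assoc, hφ, hgU.lies, hhU.lies]
    · rw [← Category.assoc, (hgU.map δ hδC).eq (g' := η) (by simpa only [hδ] using hη)]
      exact hwF.eq (by simpa only [hδ] using hhU.map δ hδC)
  have hψu : IsUnit (ψ (X i * F j)) := by rw [map_mul]; exact hi.mul hj
  let ε : U →+* T := Localization.awayLift ψ (X i * F j) hψu
  have hε : ∀ r, ε (algebraMap A U r) = ψ r := fun r => IsLocalization.Away.lift_eq _ _ r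
  have hεC : ε.comp qU = q := by rw [← hψ]; exact RingHom.ext fun r => hε _
  rw [hg.eq (g' := Spec.map (CommRingCat.ofHom ε) ≫ gU) (by simpa only [hε] using hgU.map ε hεC),
    Category.assoc, key]
  simpa only [hε] using hhU.map ε hεC

variable (hm : 1 ≤ m)

omit [IsSeparated p] in
/-- Forms are homogeneous. -/
theorem IsForm.homogeneous {φ : Y ⟶ Y} {F : Fin (m + 1) → MvPolynomial (Fin (m + 1)) K} (hF : P.IsForm φ F) :
    ∃ d, ∀ l, (F l).IsHomogeneous d := by
  classical
  obtain ⟨b, hb⟩ := hF.exists_notMem ⊥ Ideal.isPrime_bot ⟨0, by simp⟩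
  rw [Ideal.mem_bot] at hb
  let L := FractionRing (Polynomial A)
  let α : Polynomial A →+* L := algebraMap _ L
  have hα : Function.Injective α := IsFractionRing.injective _ L
  let ψ₁ : A →+* L := α.comp Polynomial.C
  let ψ₂ : A →+* L := α.comp scaleHom
  have h1 : ∀ (x : A), x ≠ 0 → IsUnit (ψ₁ x) := fun x hx => isUnit_iff_ne_zero.2 fun h =>
    hx (Polynomial.C_eq_zero.1 (hα (h.trans (map_zero α).symm)))
  have hscale : scaleHom (F b) ≠ 0 := fun h => hb (by
    rw [← sum_homogeneousComponent (F b)]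
    exact Finset.sum_eq_zero fun e _ => by rw [← coeff_scaleHom, h, Polynomial.coeff_zero])
  have hψC : ψ₂.comp C = ψ₁.comp C := RingHom.ext fun r => by
    show α (scaleHom (C r)) = α (Polynomial.C (C r))
    rw [scaleHom, eval₂Hom_C]; rfl
  obtain ⟨c, hc⟩ := (h1 (X 0) (X_ne_zero 0)).exists_left_inv
  let g := P.y L (ψ₁.comp C) 0 (fun l => c * ψ₁ (X l)) hc
  have hg₁ : P.Rep (ψ₁.comp C) g (fun l => ψ₁ (X l)) := ⟨0, c, hc, rfl⟩
  have hg₂ : P.Rep (ψ₁.comp C) g (fun l => ψ₂ (X l)) := by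
    have hX : ∀ l, ψ₂ (X l) = α Polynomial.X * ψ₁ (X l) := fun l => by
      show α (scaleHom (X l)) = _
      rw [scaleHom, eval₂Hom_X', map_mul]; rfl
    simp only [hX]
    exact hg₁.smul (isUnit_iff_ne_zero.2 fun h => Polynomial.X_ne_zero (hα (h.trans (map_zero α).symm)))
  obtain ⟨t, ht⟩ := (hF.rep L (ψ₁.comp C) ψ₁ rfl g hg₁ b (h1 _ hb)).proportional
    (hF.rep L (ψ₁.comp C) ψ₂ hψC g hg₂ b (isUnit_iff_ne_zero.2 fun h => hscale (hα (h.trans (map_zero α).symm))))
  have hcross : ∀ l, scaleHom (F l) * Polynomial.C (F b) = scaleHom (F b) * Polynomial.C (F l) := fun l => hα (by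
    rw [map_mul, map_mul]
    show ψ₂ (F l) * ψ₁ (F b) = ψ₂ (F b) * ψ₁ (F l)
    rw [ht l, ht b]; ring)
  let d := (F b).totalDegree
  have hcoef : ∀ l, homogeneousComponent d (F l) * F b = homogeneousComponent d (F b) * F l := fun l => by
    have h := congrArg (Polynomial.coeff · d) (hcross l)
    simpa only [Polynomial.coeff_mul_C, coeff_scaleHom] using h
  obtain ⟨r, hr⟩ := hF.prim.dvd_of_dvd_mul hb fun l => ⟨homogeneousComponent d (F l), by rw [← hcoef l]; ring⟩
  have hFb : homogeneousComponent d (F b) ≠ 0 := fun h => by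
    obtain ⟨s, hs, hsd⟩ := Finset.exists_mem_eq_sup _ (support_nonempty.2 hb) fun s : Fin (m + 1) →₀ ℕ => s.sum fun _ e => e
    have h' := congrArg (coeff s) h
    rw [coeff_homogeneousComponent, if_pos (show s.degree = d from hsd.symm), coeff_zero] at h'
    exact mem_support_iff.1 hs h'
  have hr0 : r ≠ 0 := fun h => hFb (by rw [hr, h, mul_zero])
  have hrd : r.totalDegree = 0 := by
    have h := congrArg totalDegree hr
    rw [totalDegree_mul_of_isDomain hb hr0, (homogeneousComponent_isHomogeneous d (F b)).totalDegree hFb] at h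
    change d = d + _ at h
    omega
  rw [totalDegree_eq_zero_iff_eq_C] at hrd
  have hhom : (F b).IsHomogeneous d := by
    have h := hr
    rw [hrd, mul_comm] at h
    have h' := homogeneousComponent_isHomogeneous d (F b)
    rw [h] at h'
    have hc0 : coeff 0 r ≠ 0 := fun hc0 => hr0 (by rw [hrd, hc0, map_zero])
    have h'' := h'.C_mul (coeff 0 r)⁻¹
    rwa [← mul_assoc, ← map_mul, inv_mul_cancel₀ hc0, map_one, one_mul] at h''
  refine ⟨d, fun l => ?_⟩
  have h := hcoef l
  rw [homogeneousComponent_of_mem hhom, if_pos rfl, mul_comm (F b)] at h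
  rw [← mul_right_cancel₀ hb h]
  exact homogeneousComponent_isHomogeneous _ _

/-- Automorphisms are linear. -/
theorem exists_matrix (φ : Y ≅ Y) (hφ : φ.hom ≫ p = p) :
    ∃ M : (Matrix (Fin (m + 1)) (Fin (m + 1)) K)ˣ, ∀ (T : Type u) [CommRing T] (q : K →+* T)
      (g : Spec (CommRingCat.of T) ⟶ Y) (v : Fin (m + 1) → T), P.Rep q g v →
      ∀ j, IsUnit (Matrix.vecMul v ((M : Matrix (Fin (m + 1)) (Fin (m + 1)) K).map q) j) →
      P.Rep q (g ≫ φ.hom) (Matrix.vecMul v ((M : Matrix (Fin (m + 1)) (Fin (m + 1)) K).map q)) := by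
  classical
  rcases Nat.eq_zero_or_pos m with hm | hm
  · subst hm
    refine ⟨1, fun T _ q g v hv j hj => ?_⟩
    have huniq : ∀ (S : Type u) [CommRing S] (q : K →+* S) (i : Fin (0 + 1)) (w : Fin (0 + 1) → S) (hw : w i = 1),
        P.y S q i w hw = P.y S q 0 (fun _ => 1) rfl := by
      intro S _ q i w hw
      haveI : Subsingleton (Fin (0 + 1)) := inferInstanceAs (Subsingleton (Fin 1))
      obtain rfl := Subsingleton.elim i 0
      congr 1
      funext l
      rwa [Subsingleton.elim l 0]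
    rw [Units.val_one, Matrix.map_one _ (map_zero q) (map_one q), Matrix.vecMul_one] at hj ⊢
    have : φ.hom = 𝟙 Y := P.hom_ext _ _ fun S _ q i w hw => by
      rw [Category.comp_id]
      refine BrSev28.eq_of_local _ _ fun x => ?_
      obtain ⟨f, hf, i', w', hw', e⟩ := P.loc S q (P.y S q i w hw ≫ φ.hom)
        (by rw [Category.assoc, hφ, P.lies]) x
      exact ⟨f, hf, by rw [e, P.nat, huniq, huniq _ _ i]⟩
    rwa [this, Category.comp_id]
  obtain ⟨F, hF⟩ := exists_isForm (P := P) φ.hom hφ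
  obtain ⟨G, hG⟩ := exists_isForm (P := P) φ.inv ((Iso.inv_comp_eq φ).2 hφ.symm)
  obtain ⟨d, hd⟩ := hF.homogeneous
  obtain ⟨e, he⟩ := hG.homogeneous
  let L := FractionRing A
  let α : A →+* L := algebraMap A L
  have hα : Function.Injective α := IsFractionRing.injective A L
  let ρ : A →+* A := eval₂Hom C F
  have hρC : ρ.comp C = C := RingHom.ext fun r => eval₂Hom_C _ _ _
  have hρ0 : ∀ 𝔭 : Ideal A, 𝔭.IsPrime → (∃ i, X i ∉ 𝔭) → ∃ l, ρ (G l) ∉ 𝔭 := fun 𝔭 h𝔭 hi => by
    obtain ⟨j, hj⟩ := hF.exists_notMem 𝔭 h𝔭 hi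
    exact hG.exists_notMem (𝔭.comap ρ) (h𝔭.comap ρ) ⟨j, by simpa [ρ] using hj⟩
  obtain ⟨b, hb⟩ := hρ0 ⊥ Ideal.isPrime_bot ⟨0, by simp⟩
  obtain ⟨j, hj⟩ := hF.exists_notMem ⊥ Ideal.isPrime_bot ⟨0, by simp⟩
  rw [Ideal.mem_bot] at hb hj
  have hu : ∀ x : A, x ≠ 0 → IsUnit (α x) := fun x hx => isUnit_iff_ne_zero.2 fun h => hx (hα (h.trans (map_zero α).symm))
  obtain ⟨c, hc⟩ := (hu (X 0) (X_ne_zero 0)).exists_left_inv
  let η := P.y L (α.comp C) 0 (fun l => c * α (X l)) hc
  have hη : P.Rep (α.comp C) η (fun l => α (X l)) := ⟨0, c, hc, rfl⟩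
  have h1 := hF.rep L _ α rfl η hη j (hu _ hj)
  have h2 := hG.rep L _ (α.comp ρ) (by rw [RingHom.comp_assoc, hρC]) (η ≫ φ.hom) (by simpa [ρ] using h1) b (hu _ hb)
  rw [Category.assoc, φ.hom_inv_id, Category.comp_id] at h2
  obtain ⟨t, ht⟩ := hη.proportional h2
  have hcross : ∀ a l, ρ (G a) * X l = ρ (G l) * X a := fun a l => hα (by
    rw [map_mul, map_mul]
    show (α.comp ρ) (G a) * α (X l) = (α.comp ρ) (G l) * α (X a)
    rw [ht a, ht l]; ring)
  let o : Fin (m + 1) := ⟨1, by omega⟩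
  have ho : o ≠ 0 := fun h => by simpa [o] using congrArg Fin.val h
  have hXdvd : ∀ {a l : Fin (m + 1)}, (X a : A) ∣ X l → a = l := fun {a l} h => by
    by_contra hne
    obtain ⟨s, hs⟩ := h
    have := congrArg (eval (Pi.single l (1 : K))) hs
    rw [map_mul, eval_X, eval_X, Pi.single_eq_same, Pi.single_eq_of_ne hne, zero_mul] at this
    exact one_ne_zero this
  obtain ⟨H, hH⟩ : X 0 ∣ ρ (G 0) := by
    have : (X 0 : A) ∣ ρ (G 0) * X o := ⟨ρ (G o), by rw [hcross]; ring⟩
    exact (((MvPolynomial.X_prime (R := K) (i := (0 : Fin (m + 1))))).dvd_or_dvd this).resolve_right fun h => ho (hXdvd h).symm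
  have hGH : ∀ l, ρ (G l) = H * X l := fun l => mul_right_cancel₀ (X_ne_zero (0 : Fin (m + 1))) (by
    rw [hcross l 0, hH]; ring)
  have hH0 : H ≠ 0 := fun h => hb (by rw [hGH, h, zero_mul])
  have hHu : IsUnit H := by
    by_contra hnu
    obtain ⟨π, hπ, hπH⟩ : ∃ π, Prime π ∧ π ∣ H := (WfDvdMonoid.exists_irreducible_factor hnu hH0).imp
      fun π h => And.intro h.1.prime h.2
    haveI hP : (Ideal.span {π}).IsPrime := (Ideal.span_singleton_prime hπ.ne_zero).2 hπ
    obtain ⟨l, hl⟩ := hρ0 _ hP (by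
      by_contra! hall
      have h0 := hπ.associated_of_dvd ((MvPolynomial.X_prime (R := K) (i := (0 : Fin (m + 1))))) (Ideal.mem_span_singleton.1 (hall 0))
      exact ho (hXdvd (h0.symm.dvd.trans (Ideal.mem_span_singleton.1 (hall o)))).symm)
    exact hl (by rw [hGH]; exact Ideal.mul_mem_right _ _ (Ideal.mem_span_singleton.2 hπH))
  obtain ⟨c₀, hc₀, rfl⟩ := MvPolynomial.isUnit_iff_eq_C_of_isReduced.1 hHu
  have hde : d * e = 1 := by
    have hb' : ρ (G b) ≠ 0 := hb
    refine IsHomogeneous.inj_right ((he b).aeval F hd) ?_ hb'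
    show (ρ (G b)).IsHomogeneous 1
    rw [hGH]
    exact (isHomogeneous_X K b).C_mul c₀
  obtain ⟨rfl, rfl⟩ := mul_eq_one.1 hde
  let M : Matrix (Fin (m + 1)) (Fin (m + 1)) K := Matrix.of fun r l => coeff (Finsupp.single r 1) (F l)
  let N : Matrix (Fin (m + 1)) (Fin (m + 1)) K := Matrix.of fun r l => coeff (Finsupp.single r 1) (G l)
  have hev : ∀ {T : Type u} [CommRing T] (ψ : A →+* T) (Φ : Fin (m + 1) → A), (∀ l, (Φ l).IsHomogeneous 1) → ∀ l,
      ψ (Φ l) = ∑ r, ψ (X r) * ψ (C (coeff (Finsupp.single r 1) (Φ l))) := by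
    intro T _ ψ Φ hΦ l
    conv_lhs => rw [eq_sum_of_degree_one (Φ l) (hΦ l), map_sum]
    simp only [map_mul, mul_comm]
  have hMN : M * N = Matrix.scalar (Fin (m + 1)) c₀ := by
    ext a l
    have h := congrArg (eval (Pi.single a (1 : K))) (hGH l)
    rw [hev ρ G he l, map_sum, map_mul, eval_C, eval_X] at h
    simp only [map_mul, ρ, eval₂Hom_X', eval₂Hom_C, eval_C] at h
    have hM : ∀ r, eval (Pi.single a (1 : K)) (F r) = M a r := fun r => by
      rw [hev _ F hd r, Finset.sum_eq_single a]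
      · simp [M]
      · intro s _ hs; simp [hs]
      · simp
    simp only [hM] at h
    rw [Matrix.mul_apply, Matrix.scalar_apply, Matrix.diagonal_apply]
    refine h.trans ?_
    rw [Pi.single_apply]
    split_ifs with h1 h2 h2
    · rw [mul_one]
    · exact absurd h1.symm h2
    · exact absurd h2.symm h1
    · rw [mul_zero]
  have hMu : IsUnit M := by
    have h : M * (c₀⁻¹ • N) = 1 := by
      rw [Matrix.mul_smul, hMN, Matrix.scalar_apply, ← Matrix.diagonal_smul]
      simp only [Pi.smul_def, smul_eq_mul, inv_mul_cancel₀ hc₀.ne_zero, Matrix.diagonal_one]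
    exact IsUnit.of_mul_eq_one _ h
  refine ⟨hMu.unit, fun T _ q g v hv k hk => ?_⟩
  rw [IsUnit.unit_spec] at hk ⊢
  let ψ : A →+* T := eval₂Hom q v
  have hψF : ∀ l, ψ (F l) = Matrix.vecMul v (M.map q) l := fun l => by
    rw [hev ψ F hd l]
    simp only [ψ, eval₂Hom_X', eval₂Hom_C, Matrix.vecMul, dotProduct, Matrix.map_apply, M, Matrix.of_apply]
  have h := hF.rep T q ψ (RingHom.ext fun r => eval₂Hom_C _ _ _) g (by simpa [ψ] using hv) k (by rwa [hψF])
  simpa only [hψF] using h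

end PtSys

end Groth.Agent.BrSev29
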