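import Groth.Agent.BrSev28.ProjPts

/-!
# Systems of points by homogeneous coordinates

A `K`-scheme whose points are indexed naturally by normalised vectors (as in `BrSev28.ProjPts`).
-/

set_option autoImplicit false
set_option backward.isDefEq.respectTransparency.types false

universe u

open CategoryTheory CategoryTheory.Limits AlgebraicGeometry

namespace Groth.Agent.BrSev29

/-- Points given by normalised vectors. -/
structure PtSys (m : ℕ) (K : Type u) [CommRing K] {Y : Scheme.{u}} (p : Y ⟶ Spec (CommRingCat.of K)) where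
  y : ∀ (S : Type u) [CommRing S] (q : K →+* S) (i : Fin (m + 1)) (v : Fin (m + 1) → S), v i = 1 →
    (Spec (CommRingCat.of S) ⟶ Y)
  lies : ∀ (S : Type u) [CommRing S] (q : K →+* S) i v hv, y S q i v hv ≫ p = Spec.map (CommRingCat.ofHom q)
  nat : ∀ (S T : Type u) [CommRing S] [CommRing T] (φ : S →+* T) (q : K →+* S) i (v : Fin (m + 1) → S) hv,
    Spec.map (CommRingCat.ofHom φ) ≫ y S q i v hv =
      y T (φ.comp q) i (fun l => φ (v l)) ((congrArg φ hv).trans (map_one φ))
  change : ∀ (S : Type u) [CommRing S] (q : K →+* S) i j (v : Fin (m + 1) → S) hv c hc,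
    y S q i v hv = y S q j (fun l => c * v l) hc
  inj : ∀ (S : Type u) [CommRing S] (q : K →+* S) i j (v w : Fin (m + 1) → S) hv hw,
    y S q i v hv = y S q j w hw → ∃ c : S, ∀ l, w l = c * v l
  loc : ∀ (S : Type u) [CommRing S] (q : K →+* S) (g : Spec (CommRingCat.of S) ⟶ Y),
    g ≫ p = Spec.map (CommRingCat.ofHom q) → ∀ x : PrimeSpectrum S,
    ∃ f : S, f ∉ x.asIdeal ∧ ∃ (i : Fin (m + 1)) (v : Fin (m + 1) → Localization.Away f) (hv : v i = 1),
      Spec.map (CommRingCat.ofHom (algebraMap S (Localization.Away f))) ≫ g =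
        y (Localization.Away f) ((algebraMap S (Localization.Away f)).comp q) i v hv

namespace PtSys

variable {m : ℕ} {K : Type u} [CommRing K] {Y : Scheme.{u}} {p : Y ⟶ Spec (CommRingCat.of K)} (P : PtSys m K p)
variable {S : Type u} [CommRing S] {q : K →+* S}

/-- `g` is the point with homogeneous coordinates `w`. -/
def Rep (q : K →+* S) (g : Spec (CommRingCat.of S) ⟶ Y) (w : Fin (m + 1) → S) : Prop :=
  ∃ (i : Fin (m + 1)) (c : S) (hc : c * w i = 1), g = P.y S q i (fun l => c * w l) hc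

theorem rep_y (i : Fin (m + 1)) (v : Fin (m + 1) → S) (hv : v i = 1) : P.Rep q (P.y S q i v hv) v := by
  refine ⟨i, 1, (one_mul _).trans hv, ?_⟩
  simp only [one_mul]

variable {P}

theorem Rep.lies {g : Spec (CommRingCat.of S) ⟶ Y} {w : Fin (m + 1) → S} (h : P.Rep q g w) :
    g ≫ p = Spec.map (CommRingCat.ofHom q) := by
  obtain ⟨i, c, hc, rfl⟩ := h
  exact P.lies _ _ _ _ _

theorem Rep.eq {g g' : Spec (CommRingCat.of S) ⟶ Y} {w : Fin (m + 1) → S}
    (h : P.Rep q g w) (h' : P.Rep q g' w) : g = g' := by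
  obtain ⟨i, c, hc, rfl⟩ := h
  obtain ⟨j, d, hd, rfl⟩ := h'
  have h1 : (d * w i) * (c * w j) = 1 := by
    rw [mul_mul_mul_comm, mul_comm (w i), ← mul_mul_mul_comm, hd, one_mul, hc]
  rw [P.change S q i j (fun l => c * w l) hc (d * w i) h1]
  congr 1
  funext l
  linear_combination (d * w l) * hc

theorem Rep.smul {g : Spec (CommRingCat.of S) ⟶ Y} {w : Fin (m + 1) → S} (h : P.Rep q g w) {a : S} (ha : IsUnit a) :
    P.Rep q g (fun l => a * w l) := by
  obtain ⟨i, c, hc, rfl⟩ := h
  obtain ⟨b, hb⟩ := ha.exists_left_inv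
  refine ⟨i, c * b, by linear_combination hc + (c * w i) * hb, ?_⟩
  congr 1
  funext l
  linear_combination -(c * w l) * hb

theorem Rep.proportional {g : Spec (CommRingCat.of S) ⟶ Y} {w w' : Fin (m + 1) → S}
    (h : P.Rep q g w) (h' : P.Rep q g w') : ∃ a : S, ∀ l, w' l = a * w l := by
  obtain ⟨i, c, hc, rfl⟩ := h
  obtain ⟨j, d, hd, hg⟩ := h'
  obtain ⟨a, ha⟩ := P.inj S q i j _ _ hc hd hg
  exact ⟨w' j * a * c, fun l => by linear_combination (w' j) * ha l - (w' l) * hd⟩

theorem Rep.map {T : Type u} [CommRing T] (φ : S →+* T) {q' : K →+* T} (hq : φ.comp q = q')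
    {g : Spec (CommRingCat.of S) ⟶ Y} {w : Fin (m + 1) → S} (h : P.Rep q g w) :
    P.Rep q' (Spec.map (CommRingCat.ofHom φ) ≫ g) (fun l => φ (w l)) := by
  obtain ⟨i, c, hc, rfl⟩ := h
  subst hq
  refine ⟨i, φ c, by rw [← map_mul, hc, map_one], ?_⟩
  rw [P.nat]
  simp only [map_mul]

variable (P)

/-- Every point over a field has coordinates. -/
theorem exists_rep {F : Type u} [Field F] (q : K →+* F) (g : Spec (CommRingCat.of F) ⟶ Y)
    (hg : g ≫ p = Spec.map (CommRingCat.ofHom q)) : ∃ w, P.Rep q g w := by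
  obtain ⟨f, hf, i, v, hv, e⟩ := P.loc F q g hg ⊥
  have hu : IsUnit f := isUnit_iff_ne_zero.2 fun h => hf (h ▸ zero_mem _)
  let β : Localization.Away f →+* F := Localization.awayLift (RingHom.id F) f hu
  have hβ : β.comp (algebraMap F _) = RingHom.id F := IsLocalization.Away.lift_comp _ _
  have h := (P.rep_y (q := (algebraMap F (Localization.Away f)).comp q) i v hv).map β
    (q' := q) (by rw [← RingHom.comp_assoc, hβ, RingHom.id_comp])
  rw [← e, ← Category.assoc, ← Spec.map_comp, ← CommRingCat.ofHom_comp, hβ, CommRingCat.ofHom_id, Spec.map_id,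
    Category.id_comp] at h
  exact ⟨_, h⟩

include P in
/-- Morphisms out of `Y` are determined on the points with coordinates. -/
theorem hom_ext {Z : Scheme.{u}} (a b : Y ⟶ Z)
    (h : ∀ (S : Type u) [CommRing S] (q : K →+* S) i v hv, P.y S q i v hv ≫ a = P.y S q i v hv ≫ b) : a = b := by
  refine Y.affineOpenCover.openCover.hom_ext _ _ fun c => ?_
  obtain ⟨qc, hqc⟩ := Spec.map_surjective (Y.affineOpenCover.f c ≫ p)
  refine BrSev28.eq_of_local (Y.affineOpenCover.f c ≫ a) (Y.affineOpenCover.f c ≫ b) fun x => ?_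
  obtain ⟨f, hf, i, v, hv, e⟩ := P.loc _ qc.hom (Y.affineOpenCover.f c) hqc.symm x
  refine ⟨f, hf, (Category.assoc _ _ _).symm.trans (Eq.trans ?_ (Category.assoc _ _ _))⟩
  exact (congrArg (· ≫ a) e).trans ((h _ _ _ _ _).trans (congrArg (· ≫ b) e).symm)

end PtSys

end Groth.Agent.BrSev29
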