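import Groth.Agent.BrSev29.AutHom
import Groth.Agent.BrSev29.SplitPts
import Groth.Agent.BrSev29.LinearAut
import Groth.Agent.CSA.GaloisDescent

/-!
# Every automorphism of a Severi–Brauer scheme comes from a unit
-/

set_option autoImplicit false
set_option backward.isDefEq.respectTransparency.types false

universe u

open CategoryTheory CategoryTheory.Limits AlgebraicGeometry
open scoped TensorProduct
open Groth.Agent.BrSev28 Matrix

namespace Groth.Agent.BrSev29

variable {k A K : Type u} [Field k] [Ring A] [Algebra k A] [Field K] [Algebra k K] {m : ℕ}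
  (e : (K ⊗[k] A) ≃ₐ[K] Matrix (Fin (m + 1)) (Fin (m + 1)) K) {X : Scheme.{u}} {f : X ⟶ Spec (CommRingCat.of k)}
  (σ : BrSev.SBStr k A ((m + 1) * (m + 1) - (m + 1)) f)

theorem splitMap_self (x : K ⊗[k] A) : splitMap e K x = e x := by
  induction x using TensorProduct.induction_on with
  | zero => rw [map_zero, map_zero]
  | tmul s a =>
    rw [splitMap_tmul, Algebra.algebraMap_self, RingHom.coe_id, Matrix.map_id, ← map_smul, TensorProduct.smul_tmul',
      smul_eq_mul, mul_one]
  | add a b ha hb => rw [map_add, map_add, ha, hb]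

theorem twist_lineIdeal {S : Type u} [CommRing S] [Algebra k S] [Algebra K S] [IsScalarTower k K S]
    (z : (S ⊗[k] A)ˣ) {i : Fin (m + 1)} {v : Fin (m + 1) → S} (hv : v i = 1)
    {j : Fin (m + 1)} {w : Fin (m + 1) → S} (hw : w j = 1) {c : S}
    (h : w ᵥ* splitMap e S (z : S ⊗[k] A) = c • v) : twist z (lineIdeal e i v hv) = lineIdeal e j w hw := by
  refine Subtype.ext (grass_eq_of_le _ _ fun x hx => ?_).symm
  rw [mem_lineIdeal] at hx
  rw [mem_twist, mem_lineIdeal]
  intro r l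
  have key : ∀ l, splitMap e S (x * z) r l = splitMap e S x r j * (c * v l) := fun l => by
    rw [map_mul, Matrix.mul_apply, ← smul_eq_mul c, ← Pi.smul_apply c v l, ← h, Matrix.vecMul, dotProduct,
      Finset.mul_sum]
    exact Finset.sum_congr rfl fun t _ => by rw [hx r t, mul_assoc]
  rw [key, key, hv]
  ring

theorem exists_eq_lineIdeal (N : BrSev.SBSet k A ((m + 1) * (m + 1) - (m + 1)) K) :
    ∃ i v hv, N = lineIdeal e i v hv := by
  obtain ⟨z, hz, r, i, hzi⟩ := exists_unit_entry e N ⊥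
  have h0 : splitMap e K z r i ≠ 0 := fun h => hzi (h ▸ zero_mem _)
  refine ⟨i, _, _, exists_lineIdeal e N hz r i (AlgHom.id K K) N ?_ (inv_mul_cancel₀ h0)⟩
  refine congrArg Module.Grassmannian.toSubmodule (grass_eq_of_le _ _ (map_le_of_forall _ _ _ fun x hx => ?_)).symm
  rw [coeffHom_apply]
  simpa using hx

include e in
theorem scalar_of_twist_fix (w : (K ⊗[k] A)ˣ)
    (h : ∀ N : BrSev.SBSet k A ((m + 1) * (m + 1) - (m + 1)) K, twist w N = N) :
    ∃ c : K, (w : K ⊗[k] A) = c • 1 := by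
  let W := e (w : K ⊗[k] A)
  have key : ∀ (i : Fin (m + 1)) (v : Fin (m + 1) → K), v i = 1 → ∀ l, (v ᵥ* W) l = (v ᵥ* W) i * v l := by
    intro i v hv l
    obtain ⟨x, hx⟩ := (splitMap_bijective e K).2 (Matrix.of fun _ t => v t)
    have hxmem : x ∈ (lineIdeal e i v hv).1.toSubmodule := by
      rw [mem_lineIdeal]; intro r t; simp [hx, hv]
    rw [← h (lineIdeal e i v hv), mem_twist, mem_lineIdeal] at hxmem
    have h1 := hxmem 0 l
    rw [map_mul, hx, splitMap_self] at h1
    exact h1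
  have hdiag : ∀ a b, a ≠ b → W a b = 0 := fun a b hab => by
    have := key a (Pi.single a 1) (Pi.single_eq_same a 1) b
    rwa [Matrix.single_one_vecMul, Matrix.row_apply, Pi.single_eq_of_ne hab.symm, mul_zero] at this
  have hconst : ∀ a, W a a = W 0 0 := fun a => by
    by_cases ha : a = 0
    · rw [ha]
    have := key 0 (Pi.single 0 1 + Pi.single a 1) (by simp [Ne.symm ha]) a
    simpa [Matrix.add_vecMul, hdiag 0 a (Ne.symm ha), hdiag a 0 ha, ha] using this
  refine ⟨W 0 0, e.injective ?_⟩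
  rw [map_smul, map_one]
  ext a b
  show W a b = _
  by_cases hab : a = b
  · subst hab; simp [hconst a]
  · simp [hdiag a b hab, hab]

theorem exists_eq_smul_one_tmul [IsGalois k K] [FiniteDimensional k K] {z : K ⊗[k] A} (hz : z ≠ 0)
    (h : ∀ τ : K ≃ₐ[k] K, ∃ c : K, coeffHom τ.toAlgHom z = c • z) : ∃ (d : K) (a : A), d ≠ 0 ∧ z = d • ((1 : K) ⊗ₜ a) := by
  let B := Algebra.TensorProduct.basis K (Module.Free.chooseBasis k A)
  have hcoord : ∀ (τ : K ≃ₐ[k] K) (x : K ⊗[k] A) i, B.repr (coeffHom τ.toAlgHom x) i = τ (B.repr x i) := by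
    intro τ x i
    induction x using TensorProduct.induction_on with
    | zero => simp
    | tmul l c => simp [B, coeffHom, map_mul]
    | add u v hu hv => simp only [map_add, Finsupp.add_apply, hu, hv]
  have hsemi : ∀ (τ : K ≃ₐ[k] K) (d : K) (x : K ⊗[k] A), coeffHom τ.toAlgHom (d • x) = τ d • coeffHom τ.toAlgHom x :=
    fun τ d x => B.repr.injective (Finsupp.ext fun i => by simp [hcoord])
  obtain ⟨i, hi⟩ : ∃ i, B.repr z i ≠ 0 := by
    by_contra! h0
    exact hz (B.repr.injective (Finsupp.ext fun i => by simp [h0 i]))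
  obtain ⟨a, ha⟩ := CSA.exists_eq_one_tmul_of_fixed ((B.repr z i)⁻¹ • z) fun τ => by
    refine (coeffHom_apply τ.toAlgHom _).symm.trans ?_
    obtain ⟨c, hc⟩ := h τ
    have hci : τ (B.repr z i) = c * B.repr z i := by rw [← hcoord, hc]; simp
    have hc0 : c ≠ 0 := fun h0 => hi (by
      rw [h0, zero_mul] at hci
      exact (map_eq_zero τ).1 hci)
    rw [hsemi, hc, map_inv₀, hci, smul_smul]
    congr 1
    field_simp
  refine ⟨B.repr z i, a, hi, ?_⟩
  rw [← ha, smul_smul, mul_inv_cancel₀ hi, one_smul]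

theorem isUnit_of_isUnit_tmul [FiniteDimensional k A] {a : A} (h : IsUnit ((1 : K) ⊗ₜ[k] a)) : IsUnit a := by
  have hinj : Function.Injective (LinearMap.mulLeft k a) := fun x y hxy => by
    apply Algebra.TensorProduct.includeRight_injective (R := k) (A := K) (B := A) (algebraMap k K).injective
    apply h.mul_left_cancel
    simpa [Algebra.TensorProduct.tmul_mul_tmul] using congrArg (fun t => (1 : K) ⊗ₜ[k] t) hxy
  obtain ⟨b, hb⟩ := LinearMap.injective_iff_surjective.1 hinj 1
  exact ⟨⟨a, b, hb, hinj (show a * (b * a) = a * 1 by rw [← mul_assoc, show a * b = 1 from hb, one_mul, mul_one])⟩, rfl⟩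

theorem exists_isUnit_notMem {T : Type u} [CommRing T] (x : PrimeSpectrum T) {v : Fin (m + 1) → T}
    {i : Fin (m + 1)} (hv : v i = 1) {M : Matrix (Fin (m + 1)) (Fin (m + 1)) T} (hM : IsUnit M) :
    ∃ j, (v ᵥ* M) j ∉ x.asIdeal := by
  by_contra! h
  obtain ⟨N, hN⟩ := hM.exists_right_inv
  have hv' : v i = ∑ t, (v ᵥ* M) t * N t i := by
    show v i = ((v ᵥ* M) ᵥ* N) i
    rw [Matrix.vecMul_vecMul, hN, Matrix.vecMul_one]
  exact x.2.ne_top ((Ideal.eq_top_iff_one _).2 (hv ▸ hv' ▸ Ideal.sum_mem _ fun t _ => Ideal.mul_mem_right _ _ (h t)))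

/-- The base change of an endomorphism over `k`. -/
noncomputable def bcMap (h : X ⟶ X) (hf : h ≫ f = f) : BrSev.bc f K ⟶ BrSev.bc f K :=
  pullback.lift (BrSev.proj f K ≫ h) (BrSev.bcTo f K) (by rw [Category.assoc, hf]; exact pullback.condition)

theorem bcMap_proj (h : X ⟶ X) (hf : h ≫ f = f) : bcMap (K := K) h hf ≫ BrSev.proj f K = BrSev.proj f K ≫ h :=
  pullback.lift_fst _ _ _

theorem bcMap_bcTo (h : X ⟶ X) (hf : h ≫ f = f) : bcMap (K := K) h hf ≫ BrSev.bcTo f K = BrSev.bcTo f K :=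
  pullback.lift_snd _ _ _

theorem bcMap_bcMap (h h' : X ⟶ X) (hf : h ≫ f = f) (hf' : h' ≫ f = f) (he : h ≫ h' = 𝟙 X) :
    bcMap (K := K) h hf ≫ bcMap h' hf' = 𝟙 _ := by
  apply pullback.hom_ext
  · rw [Category.assoc, bcMap_proj, ← Category.assoc, bcMap_proj, Category.assoc, he, Category.comp_id, Category.id_comp]
  · rw [Category.assoc, bcMap_bcTo, bcMap_bcTo, Category.id_comp]

/-- The induced automorphism over the splitting field. -/
noncomputable def bcAut (g : Aut (Over.mk f)) : BrSev.bc f K ≅ BrSev.bc f K where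
  hom := bcMap g.hom.left (Over.w g.hom)
  inv := bcMap g.inv.left (Over.w g.inv)
  hom_inv_id := bcMap_bcMap _ _ _ _ (congrArg CommaMorphism.left g.hom_inv_id)
  inv_hom_id := bcMap_bcMap _ _ _ _ (congrArg CommaMorphism.left g.inv_hom_id)

theorem bcAut_proj (g : Aut (Over.mk f)) : (bcAut (K := K) g).hom ≫ BrSev.proj f K = BrSev.proj f K ≫ g.hom.left :=
  bcMap_proj g.hom.left (Over.w g.hom)

include e in
theorem autHom_eq_one_iff [Algebra.IsCentral k A] (a : Aˣ) :
    autHom σ a = 1 ↔ a ∈ (Units.map (algebraMap k A : k →* A)).range := by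
  constructor
  · intro h
    have h1 : actHom σ a = 𝟙 X := congrArg (fun t : Aut (Over.mk f) => t.hom.left) h
    obtain ⟨c, hc⟩ := scalar_of_twist_fix e (unitHom K a) fun N => by
      have h2 := comp_actHom σ a ((σ.bij K).symm N)
      rw [h1, Category.comp_id, actPts, Equiv.apply_symm_apply] at h2
      exact ((σ.bij K).symm.injective (Subtype.ext h2)).symm
    rw [coe_unitHom] at hc
    have hcen : (a : A) ∈ Subalgebra.center k A := Subalgebra.mem_center_iff.2 fun b => by
      apply Algebra.TensorProduct.includeRight_injective (R := k) (A := K) (B := A) (algebraMap k K).injective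
      simp only [map_mul, Algebra.TensorProduct.includeRight_apply, hc, smul_mul_assoc, mul_smul_comm, one_mul, mul_one]
    rw [Algebra.IsCentral.center_eq_bot, Algebra.mem_bot] at hcen
    obtain ⟨r, hr⟩ := hcen
    haveI : Nontrivial A := ⟨⟨0, 1, fun h01 => by
      haveI := subsingleton_of_zero_eq_one h01
      haveI : Subsingleton (K ⊗[k] A) := ⟨fun x y => by
        rw [← mul_one x, ← mul_one y, Algebra.TensorProduct.one_def, ← h01]; simp⟩
      exact one_ne_zero (α := Matrix (Fin (m + 1)) (Fin (m + 1)) K)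
        (by rw [← map_one e, ← map_zero e]; exact congrArg e (Subsingleton.elim _ _))⟩⟩
    exact ⟨Units.mk0 r fun h0 => a.ne_zero (by rw [← hr, h0, map_zero]), Units.ext hr⟩
  · rintro ⟨r, rfl⟩
    refine Iso.ext (Over.OverMorphism.ext (hom_ext_pts (f := f) _ _ fun R _ _ P => ?_))
    show P.1 ≫ actHom σ _ = P.1 ≫ 𝟙 X
    rw [Category.comp_id, comp_actHom, actPts]
    refine congrArg Subtype.val ((σ.bij R).symm_apply_eq.2 (Subtype.ext (Module.Grassmannian.ext
      (Submodule.ext fun x => ?_))))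
    rw [mem_twist, coe_unitHom]
    show x * (1 : R) ⊗ₜ[k] algebraMap k A r ∈ _ ↔ _
    rw [Algebra.algebraMap_eq_smul_one, TensorProduct.tmul_smul, ← Algebra.TensorProduct.one_def, mul_smul_comm, mul_one,
      ← algebraMap_smul R (r : k) x]
    exact Submodule.smul_mem_iff' _ ((Units.map (algebraMap k R : k →* R)) r)

/-- The first projection of a point of the splitting system. -/
theorem linePtSys_proj {S : Type u} [CommRing S] [iK : Algebra K S] [ik : Algebra k S] [IsScalarTower k K S]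
    (q : K →+* S) (hq : algebraMap K S = q) (i : Fin (m + 1)) (v : Fin (m + 1) → S) (hv : v i = 1) :
    (linePtSys e σ).y S q i v hv ≫ BrSev.proj f K = ((σ.bij S).symm (lineIdeal e i v hv)).1 := by
  obtain rfl : ik = (q.comp (algebraMap k K)).toAlgebra := Algebra.algebra_ext _ _ fun r => by
    rw [IsScalarTower.algebraMap_apply k K S r, hq]; rfl
  obtain rfl : iK = q.toAlgebra := Algebra.algebra_ext _ _ fun r => by rw [hq]; rfl
  exact pullback.lift_fst _ _ _

theorem splitMap_coe_unitHom {S : Type u} [CommRing S] [Algebra k S] [Algebra K S] [IsScalarTower k K S] (a : Aˣ) :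
    splitMap e S ((unitHom S a : (S ⊗[k] A)ˣ) : S ⊗[k] A) = (e ((1 : K) ⊗ₜ (a : A))).map (algebraMap K S) := by
  rw [coe_unitHom, splitMap_tmul, one_smul]

include e in
theorem autHom_surjective [IsGalois k K] [FiniteDimensional k K] [FiniteDimensional k A] :
    Function.Surjective (autHom σ) := by
  intro g
  haveI := isSeparated_bcTo e σ
  obtain ⟨M, hM⟩ := PtSys.exists_matrix (P := linePtSys e σ) (bcAut (K := K) g) (bcMap_bcTo g.hom.left (Over.w g.hom))
  let z : (K ⊗[k] A)ˣ := Units.map (e.symm : Matrix (Fin (m + 1)) (Fin (m + 1)) K →* K ⊗[k] A) M⁻¹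
  have hz : e (z : K ⊗[k] A) = ((M⁻¹ : (Matrix (Fin (m + 1)) (Fin (m + 1)) K)ˣ) : Matrix (Fin (m + 1)) (Fin (m + 1)) K) :=
    e.apply_symm_apply _
  -- on points over `K`
  have hgz : ∀ P P' : BrSev.Pts f K, P'.1 = P.1 ≫ g.hom.left → σ.bij K P' = twist z (σ.bij K P) := by
    intro P P' hP'
    obtain ⟨i, v, hv, hN⟩ := exists_eq_lineIdeal e (σ.bij K P)
    obtain ⟨j, hj⟩ := exists_isUnit_notMem (⊥ : PrimeSpectrum K) hv M.isUnit
    have hid : (M : Matrix (Fin (m + 1)) (Fin (m + 1)) K).map (RingHom.id K) = (M : Matrix (Fin (m + 1)) (Fin (m + 1)) K) :=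
      Matrix.map_id _
    have hrep := hM K (RingHom.id K) _ v ((linePtSys e σ).rep_y i v hv) j (by
      rw [hid]; exact isUnit_iff_ne_zero.2 fun h0 => hj (h0 ▸ zero_mem _))
    rw [hid] at hrep
    obtain ⟨j', c, hc, heq⟩ := hrep
    have h1 : ((σ.bij K).symm (lineIdeal e i v hv)).1 ≫ g.hom.left =
        ((σ.bij K).symm (lineIdeal e j' (fun l => c * (v ᵥ* (M : Matrix (Fin (m + 1)) (Fin (m + 1)) K)) l) hc)).1 := by
      rw [← linePtSys_proj e σ (RingHom.id K) Algebra.algebraMap_self i v hv,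
        ← linePtSys_proj e σ (RingHom.id K) Algebra.algebraMap_self j' _ hc, Category.assoc, ← bcAut_proj,
        ← Category.assoc, heq]
    rw [← hN, Equiv.symm_apply_apply, ← hP'] at h1
    rw [(Equiv.eq_symm_apply (σ.bij K)).1 (Subtype.ext h1), hN]
    refine (twist_lineIdeal e z hv hc (c := c) ?_).symm
    rw [splitMap_self, hz, show (fun l => c * (v ᵥ* (M : Matrix (Fin (m + 1)) (Fin (m + 1)) K)) l) =
      c • (v ᵥ* (M : Matrix (Fin (m + 1)) (Fin (m + 1)) K)) from rfl, Matrix.smul_vecMul, Matrix.vecMul_vecMul,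
      Units.mul_inv, Matrix.vecMul_one]
  let gp : BrSev.Pts f K → BrSev.Pts f K := fun P => ⟨P.1 ≫ g.hom.left, by
    rw [Category.assoc]; exact (congrArg (P.1 ≫ ·) (Over.w g.hom)).trans P.2⟩
  have hgp : ∀ P, σ.bij K (gp P) = twist z (σ.bij K P) := fun P => hgz P (gp P) rfl
  -- Galois invariance
  have hgal : ∀ τ : K ≃ₐ[k] K, ∃ c : K, coeffHom τ.toAlgHom (z : K ⊗[k] A) = c • (z : K ⊗[k] A) := by
    intro τ
    let τz : (K ⊗[k] A)ˣ := Units.map (coeffHom (A := A) τ.toAlgHom).toRingHom.toMonoidHom z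
    have hfix : ∀ N : BrSev.SBSet k A ((m + 1) * (m + 1) - (m + 1)) K, twist τz N = twist z N := by
      intro N
      obtain ⟨P, rfl⟩ : ∃ P, σ.bij K (BrSev.Pts.map f τ.toAlgHom P) = N := by
        refine ⟨BrSev.Pts.map f τ.symm.toAlgHom ((σ.bij K).symm N), ?_⟩
        refine (congrArg (σ.bij K) (Subtype.ext ?_)).trans ((σ.bij K).apply_symm_apply N)
        show Spec.map _ ≫ Spec.map _ ≫ _ = _
        rw [← Category.assoc, ← Spec.map_comp, ← CommRingCat.ofHom_comp]
        have he : (τ.toAlgHom : K →+* K).comp (τ.symm.toAlgHom : K →+* K) = RingHom.id K :=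
          RingHom.ext fun x => τ.apply_symm_apply x
        rw [he, CommRingCat.ofHom_id, Spec.map_id, Category.id_comp]
      refine Subtype.ext ?_
      rw [← hgp, show gp (BrSev.Pts.map f τ.toAlgHom P) = BrSev.Pts.map f τ.toAlgHom (gp P) from
        Subtype.ext (Category.assoc _ _ _), ← map_twist τ.toAlgHom z (σ.bij K P) _ (σ.natural K K τ.toAlgHom P), ← hgp]
      exact Module.Grassmannian.ext (σ.natural K K τ.toAlgHom (gp P)).symm
    obtain ⟨c, hc⟩ := scalar_of_twist_fix e (z⁻¹ * τz) fun N => by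
      rw [twist_mul, hfix, ← twist_mul, inv_mul_cancel, twist_one]
    refine ⟨c, ?_⟩
    have h2 : (τz : K ⊗[k] A) = z * (↑(z⁻¹ * τz) : K ⊗[k] A) := by rw [Units.val_mul, Units.mul_inv_cancel_left]
    rw [hc, mul_smul_comm, mul_one] at h2
    exact h2
  have hzne : (z : K ⊗[k] A) ≠ 0 := fun h0 => by
    have h3 : e ((z : K ⊗[k] A) * ↑z⁻¹) = e 0 := by rw [h0, zero_mul]
    rw [Units.mul_inv, map_one, map_zero] at h3
    exact one_ne_zero h3
  obtain ⟨d, a, hd, hza⟩ := exists_eq_smul_one_tmul hzne hgal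
  have hau : IsUnit ((1 : K) ⊗ₜ[k] a) := by
    rw [show (1 : K) ⊗ₜ[k] a = algebraMap K (K ⊗[k] A) d⁻¹ * z by
      rw [← Algebra.smul_def, hza, smul_smul, inv_mul_cancel₀ hd, one_smul]]
    exact ((IsUnit.mk0 d⁻¹ (inv_ne_zero hd)).map _).mul z.isUnit
  obtain ⟨u, rfl⟩ := isUnit_of_isUnit_tmul hau
  have heu : e ((1 : K) ⊗ₜ (u : A)) = d⁻¹ • ((M⁻¹ : (Matrix (Fin (m + 1)) (Fin (m + 1)) K)ˣ) : Matrix (Fin (m + 1)) (Fin (m + 1)) K) := by
    rw [← hz, ← map_smul, hza, smul_smul, inv_mul_cancel₀ hd, one_smul]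
  refine ⟨u, Iso.ext (Over.OverMorphism.ext ?_)⟩
  haveI : Flat (Spec.map (CommRingCat.ofHom (algebraMap k K))) :=
    HasRingHomProperty.Spec_iff.2 (RingHom.Flat.of_isField (Field.toIsField k) _)
  haveI : Surjective (Spec.map (CommRingCat.ofHom (algebraMap k K))) :=
    ⟨fun x => ⟨(⊥ : PrimeSpectrum K), Subsingleton.elim (α := PrimeSpectrum k) _ _⟩⟩
  haveI : QuasiCompact (Spec.map (CommRingCat.ofHom (algebraMap k K))) := inferInstance
  haveI : Epi (BrSev.proj f K) := Flat.epi_of_flat_of_surjective _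
  rw [autHom_left, ← cancel_epi (BrSev.proj f K)]
  refine (linePtSys e σ).hom_ext _ _ fun S _ q i v hv => BrSev28.eq_of_local _ _ fun x => ?_
  obtain ⟨j, hj⟩ := exists_isUnit_notMem x hv (M := (M : Matrix (Fin (m + 1)) (Fin (m + 1)) K).map q)
    (M.isUnit.map q.mapMatrix)
  let s := (v ᵥ* (M : Matrix (Fin (m + 1)) (Fin (m + 1)) K).map q) j
  refine ⟨s, hj, ?_⟩
  let α := algebraMap S (Localization.Away s)
  let q' := α.comp q
  letI iK : Algebra K (Localization.Away s) := q'.toAlgebra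
  letI ik : Algebra k (Localization.Away s) := (q'.comp (algebraMap k K)).toAlgebra
  haveI : IsScalarTower k K (Localization.Away s) := IsScalarTower.of_algebraMap_eq' rfl
  let v' : Fin (m + 1) → Localization.Away s := fun l => α (v l)
  have hv' : v' i = 1 := (congrArg α hv).trans (map_one α)
  have hvM : v' ᵥ* (M : Matrix (Fin (m + 1)) (Fin (m + 1)) K).map q' =
      fun l => α ((v ᵥ* (M : Matrix (Fin (m + 1)) (Fin (m + 1)) K).map q) l) := funext fun l => by
    rw [RingHom.map_vecMul, Matrix.map_map]; rfl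
  obtain ⟨j', c, hc, heq⟩ := hM (Localization.Away s) q' _ v' ((linePtSys e σ).rep_y i v' hv') j (by
    rw [hvM]; exact IsLocalization.Away.algebraMap_isUnit s)
  let β := Spec.map (CommRingCat.ofHom α)
  have hnat : β ≫ (linePtSys e σ).y S q i v hv = (linePtSys e σ).y _ q' i v' hv' := (linePtSys e σ).nat _ _ α q i v hv
  have hL : β ≫ (linePtSys e σ).y S q i v hv ≫ BrSev.proj f K ≫ actHom σ u =
      ((σ.bij _).symm (twist (unitHom (Localization.Away s) u) (lineIdeal e i v' hv'))).1 := by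
    rw [reassoc_of% hnat, reassoc_of% (linePtSys_proj e σ q' rfl i v' hv'), comp_actHom, actPts, Equiv.apply_symm_apply]
  have hR : β ≫ (linePtSys e σ).y S q i v hv ≫ BrSev.proj f K ≫ g.hom.left =
      ((σ.bij _).symm (lineIdeal e j' (fun l => c * (v' ᵥ* (M : Matrix (Fin (m + 1)) (Fin (m + 1)) K).map q') l) hc)).1 := by
    rw [reassoc_of% hnat, ← bcAut_proj, ← Category.assoc, heq, linePtSys_proj e σ q' rfl j' _ hc]
  refine hL.trans (Eq.trans ?_ hR.symm)
  refine congrArg (fun N => ((σ.bij _).symm N).1) (twist_lineIdeal e _ hv' hc (c := c * q' d⁻¹) ?_)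
  rw [splitMap_coe_unitHom, heu, show algebraMap K (Localization.Away s) = q' from rfl, Matrix.map_smul _ _ (fun x => map_mul q' d⁻¹ x)]
  change (c • (v' ᵥ* (M : Matrix (Fin (m + 1)) (Fin (m + 1)) K).map q')) ᵥ* _ = _
  rw [Matrix.smul_vecMul, Matrix.vecMul_smul, Matrix.vecMul_vecMul, ← Matrix.map_mul, Units.mul_inv,
    Matrix.map_one _ (map_zero q') (map_one q'), Matrix.vecMul_one, ← algebraMap_smul (Localization.Away s) d⁻¹ v',
    smul_smul]
  rfl

end Groth.Agent.BrSev29
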