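import Groth.Agent.CSA.Centralizer
import Mathlib.FieldTheory.Minpoly.Field
import Mathlib.RingTheory.Adjoin.Basic
import Mathlib.RingTheory.Adjoin.PowerBasis
import Mathlib.Algebra.Polynomial.Splits

/-!
# Powers of elements of finite projective order in a division algebra
-/

set_option autoImplicit false
set_option linter.style.haveILetI false

universe u

open Polynomial

namespace Groth.Agent.BrSev29

variable {k A : Type u} [Field k] [DivisionRing A] [Algebra k A]

theorem natDegree_minpoly_dvd [Algebra.IsCentral k A] {n : ℕ} (hn : 0 < n) (hA : Module.finrank k A = n * n) (a : A) :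
    (minpoly k a).natDegree ∣ n := by
  haveI : FiniteDimensional k A := FiniteDimensional.of_finrank_pos (by rw [hA]; positivity)
  let L := Algebra.adjoin k ({a} : Set A)
  letI : CommRing L := Algebra.adjoinCommRingOfComm k (by rintro x rfl y rfl; rfl)
  letI : Field L := fieldOfFiniteDimensional k L
  haveI : IsSimpleRing L := inferInstance
  obtain ⟨-, hdim⟩ := CSA.centralizer_simple_and_finrank k L
  let C := Subalgebra.centralizer k (L : Set A)
  have hLC : L ≤ C := by
    intro x hx y hy
    exact congrArg Subtype.val (mul_comm (⟨y, hy⟩ : L) ⟨x, hx⟩)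
  letI : Algebra L C := (Subalgebra.inclusion hLC).toRingHom.toAlgebra' fun c z => Subtype.ext (z.2 c c.2)
  haveI : IsScalarTower k L C := IsScalarTower.of_algebraMap_eq fun r => Subtype.ext rfl
  have hmul : Module.finrank k L * Module.finrank L C = Module.finrank k C := Module.finrank_mul_finrank k L C
  have hd : Module.finrank k L = (minpoly k a).natDegree := by
    let α : L := ⟨a, Algebra.self_mem_adjoin_singleton k a⟩
    have hα : IsIntegral k α := Algebra.IsIntegral.isIntegral α
    have htop : Algebra.adjoin k ({α} : Set L) = ⊤ := by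
      refine Subalgebra.map_injective (f := L.val) Subtype.val_injective ?_
      rw [AlgHom.map_adjoin, Set.image_singleton, Algebra.map_top, Subalgebra.range_val]
      rfl
    rw [(PowerBasis.ofAdjoinEqTop hα htop).finrank, PowerBasis.ofAdjoinEqTop_dim,
      ← minpoly.algHom_eq L.val Subtype.val_injective α]
    rfl
  rw [← hd]
  refine (Nat.pow_dvd_pow_iff (n := 2) (by norm_num)).1 ⟨Module.finrank L C, ?_⟩
  rw [sq, sq, ← hA, ← hdim, ← hmul]
  ring

theorem pow_natDegree_minpoly_mem {a : A} (ha : a ≠ 0) {r : ℕ} (hr : 0 < r) (hk : (X ^ r - 1 : k[X]).Splits) {c : k}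
    (hc : a ^ r = algebraMap k A c) : ∃ b : k, algebraMap k A b = a ^ (minpoly k a).natDegree := by
  have hint : IsIntegral k a := ⟨X ^ r - C c, monic_X_pow_sub_C c hr.ne', by simp [hc]⟩
  let L := Algebra.adjoin k ({a} : Set A)
  letI : CommRing L := Algebra.adjoinCommRingOfComm k (by rintro x rfl y rfl; rfl)
  haveI : Module.Finite k L := Module.Finite.iff_fg.2 hint.fg_adjoin_singleton
  letI : Field L := fieldOfFiniteDimensional k L
  let α : L := ⟨a, Algebra.self_mem_adjoin_singleton k a⟩
  have hα : α ≠ 0 := fun h => ha (congrArg Subtype.val h)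
  have hαr : α ^ r = algebraMap k L c := Subtype.ext hc
  let Q : L[X] := (X ^ r - 1 : k[X]).map (algebraMap k L)
  let P : L[X] := (minpoly k α).map (algebraMap k L)
  have hPQ : P ∣ X ^ r - C (α ^ r) := by
    have h : minpoly k α ∣ X ^ r - C c := minpoly.dvd k α (by simp [hαr])
    simpa [P, hαr] using Polynomial.map_dvd (algebraMap k L) h
  have hsplit : (X ^ r - C (α ^ r) : L[X]).Splits := by
    have h := ((hk.map (algebraMap k L)).comp_of_degree_le_one (g := C α⁻¹ * X) (degree_C_mul_X_le _)).C_mul (α ^ r)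
    have he : (X ^ r - C (α ^ r) : L[X]) =
        C (α ^ r) * (((X ^ r - 1 : k[X]).map (algebraMap k L)).comp (C α⁻¹ * X)) := by
      rw [Polynomial.map_sub, Polynomial.map_pow, Polynomial.map_X, Polynomial.map_one, sub_comp, pow_comp, X_comp,
        one_comp, mul_sub, mul_one, mul_pow, ← mul_assoc, ← C_pow, ← C_mul, inv_pow,
        mul_inv_cancel₀ (pow_ne_zero r hα), C_1, one_mul]
    rwa [he]
  have hintα : IsIntegral k α := Algebra.IsIntegral.isIntegral α
  have hne : (X ^ r - C (α ^ r) : L[X]) ≠ 0 := (monic_X_pow_sub_C _ hr.ne').ne_zero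
  have hPs : P.Splits := hsplit.of_dvd hne hPQ
  have hmonic : P.Monic := (minpoly.monic hintα).map _
  have hroot : ∀ β ∈ P.roots, ∃ t : k, t ≠ 0 ∧ β = algebraMap k L t * α := by
    intro β hβ
    have hβr : β ^ r = α ^ r := by
      have := (mem_roots hne).1 (Multiset.mem_of_le (roots.le_of_dvd hne hPQ) hβ)
      simpa [sub_eq_zero] using this
    obtain ⟨t, ht⟩ := hk.mem_range_of_isRoot (i := algebraMap k L) (monic_X_pow_sub_C (1 : k) hr.ne').ne_zero
      (x := β / α) (by simp [div_pow, hβr, hα])
    refine ⟨t, fun h0 => ?_, by rw [ht, div_mul_cancel₀ _ hα]⟩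
    rw [h0, map_zero] at ht
    have hβ0 : β = 0 := (div_eq_zero_iff.1 ht.symm).resolve_right hα
    rw [hβ0, zero_pow hr.ne'] at hβr
    exact pow_ne_zero r hα hβr.symm
  have hprod : ∀ s : Multiset L, (∀ β ∈ s, ∃ t : k, t ≠ 0 ∧ β = algebraMap k L t * α) →
      ∃ t : k, t ≠ 0 ∧ s.prod = algebraMap k L t * α ^ Multiset.card s := by
    intro s
    induction s using Multiset.induction_on with
    | empty => exact fun _ => ⟨1, one_ne_zero, by simp⟩
    | cons β s ih =>
      intro h
      obtain ⟨t, ht, rfl⟩ := h β (Multiset.mem_cons_self _ _)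
      obtain ⟨t', ht', hs⟩ := ih fun γ hγ => h γ (Multiset.mem_cons_of_mem hγ)
      exact ⟨t * t', mul_ne_zero ht ht', by rw [Multiset.prod_cons, hs, Multiset.card_cons, map_mul, pow_succ]; ring⟩
  obtain ⟨t, ht, hs⟩ := hprod _ hroot
  have hcoeff := hPs.coeff_zero_eq_prod_roots_of_monic hmonic
  rw [hs, ← hPs.natDegree_eq_card_roots] at hcoeff
  have hdeg : P.natDegree = (minpoly k a).natDegree := by
    rw [natDegree_map, ← minpoly.algHom_eq L.val Subtype.val_injective α]
    rfl
  refine ⟨(-1) ^ P.natDegree * (minpoly k α).coeff 0 / t, ?_⟩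
  have h2 : α ^ P.natDegree = algebraMap k L ((-1) ^ P.natDegree * (minpoly k α).coeff 0 / t) := by
    rw [map_div₀, eq_div_iff (by simp [ht]), map_mul, map_pow, map_neg, map_one, ← coeff_map, hcoeff, ← mul_assoc,
      ← mul_pow, neg_one_mul, neg_neg, one_pow, one_mul, mul_comm]
  rw [← hdeg]
  exact (congrArg Subtype.val h2).symm

end Groth.Agent.BrSev29
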