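import Groth.Agent.BrSev28.Ideals

/-!
# The action of units on families of left ideals
-/

set_option autoImplicit false
set_option backward.isDefEq.respectTransparency.types false

universe u

open scoped TensorProduct
open Groth.Agent.BrSev28

namespace Groth.Agent.BrSev29

variable {k A : Type u} [Field k] [Ring A] [Algebra k A] {c : ℕ}
variable {S : Type u} [CommRing S] [Algebra k S]

/-- Right multiplication by a unit. -/
noncomputable def mulRightEquiv (z : (S ⊗[k] A)ˣ) : (S ⊗[k] A) ≃ₗ[S] (S ⊗[k] A) where
  toFun x := x * z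
  map_add' x y := add_mul x y _
  map_smul' s x := smul_mul_assoc s x _
  invFun x := x * ↑z⁻¹
  left_inv x := by simp [mul_assoc]
  right_inv x := by simp [mul_assoc]

/-- `N ↦ N z⁻¹`. -/
noncomputable def twist (z : (S ⊗[k] A)ˣ) (N : BrSev.SBSet k A c S) : BrSev.SBSet k A c S :=
  ⟨{ toSubmodule := N.1.toSubmodule.comap (mulRightEquiv z).toLinearMap
     finite_quotient := Module.Finite.equiv (Submodule.Quotient.equiv _ N.1.toSubmodule (mulRightEquiv z)
       (Submodule.map_comap_eq_of_surjective (mulRightEquiv z).surjective _)).symm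
     projective_quotient := Module.Projective.of_equiv (Submodule.Quotient.equiv _ N.1.toSubmodule (mulRightEquiv z)
       (Submodule.map_comap_eq_of_surjective (mulRightEquiv z).surjective _)).symm
     rankAtStalk_eq := fun p => by
      rw [congrFun (Module.rankAtStalk_eq_of_equiv (Submodule.Quotient.equiv _ N.1.toSubmodule (mulRightEquiv z)
        (Submodule.map_comap_eq_of_surjective (mulRightEquiv z).surjective _))) p, N.1.rankAtStalk_eq] },
    fun a x hx => by
      show a * x * z ∈ N.1.toSubmodule
      rw [mul_assoc]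
      exact N.2 a _ hx⟩

theorem mem_twist {z : (S ⊗[k] A)ˣ} {N : BrSev.SBSet k A c S} {x : S ⊗[k] A} :
    x ∈ (twist z N).1.toSubmodule ↔ x * z ∈ N.1.toSubmodule := Iff.rfl

theorem twist_one (N : BrSev.SBSet k A c S) : twist 1 N = N :=
  Subtype.ext (Module.Grassmannian.ext (Submodule.ext fun x => by rw [mem_twist, Units.val_one, mul_one]))

theorem twist_mul (z w : (S ⊗[k] A)ˣ) (N : BrSev.SBSet k A c S) : twist (z * w) N = twist z (twist w N) :=
  Subtype.ext (Module.Grassmannian.ext (Submodule.ext fun x => by
    rw [mem_twist, mem_twist, mem_twist, Units.val_mul, mul_assoc]))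

variable {T : Type u} [CommRing T] [Algebra k T]

/-- Change of coefficients. -/
noncomputable def coeffHom (φ : S →ₐ[k] T) : (S ⊗[k] A) →ₐ[k] (T ⊗[k] A) :=
  Algebra.TensorProduct.map φ (AlgHom.id k A)

theorem coeffHom_apply (φ : S →ₐ[k] T) (x : S ⊗[k] A) : coeffHom φ x = φ.toLinearMap.rTensor A x := by
  induction x using TensorProduct.induction_on with
  | zero => simp
  | tmul s a => simp [coeffHom]
  | add a b ha hb => rw [map_add, map_add, ha, hb]

theorem map_le_of_forall (φ : S →ₐ[k] T) (N : Module.Grassmannian S (S ⊗[k] A) c) (P : Submodule T (T ⊗[k] A))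
    (h : ∀ x ∈ N.toSubmodule, coeffHom φ x ∈ P) : (Module.Grassmannian.map φ N).toSubmodule ≤ P := by
  letI : Algebra S T := φ.toAlgebra
  haveI : IsScalarTower k S T := IsScalarTower.of_algebraMap_eq' (IsScalarTower.algebraMap_eq k S T)
  intro y hy
  rw [Module.Grassmannian.map_toSubmodule, LinearMap.mem_ker, Module.Grassmannian.baseChangeMkQ,
    LinearMap.comp_apply] at hy
  let E := TensorProduct.AlgebraTensorModule.cancelBaseChange k S T T A
  obtain ⟨w, hw⟩ := ((lTensor_exact T (LinearMap.exact_subtype_mkQ N.toSubmodule)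
    (Submodule.mkQ_surjective _)) (E.symm y)).1 hy
  rw [show y = E (E.symm y) from (E.apply_symm_apply y).symm, ← hw]
  clear hw hy
  induction w using TensorProduct.induction_on with
  | zero => rw [map_zero, map_zero]; exact zero_mem _
  | tmul t n =>
    rw [LinearMap.lTensor_tmul, Submodule.subtype_apply,
      show t ⊗ₜ[S] (n : S ⊗[k] A) = t • ((1 : T) ⊗ₜ[S] (n : S ⊗[k] A)) by
        rw [TensorProduct.smul_tmul', smul_eq_mul, mul_one], map_smul]
    refine P.smul_mem t ?_
    have e : E ((1 : T) ⊗ₜ[S] (n : S ⊗[k] A)) = coeffHom φ (n : S ⊗[k] A) := by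
      induction (n : S ⊗[k] A) using TensorProduct.induction_on with
      | zero => simp
      | tmul s a =>
        simp [E, coeffHom, TensorProduct.AlgebraTensorModule.cancelBaseChange_tmul, Algebra.smul_def,
          RingHom.algebraMap_toAlgebra]
      | add a b ha hb => rw [TensorProduct.tmul_add, map_add, map_add, ha, hb]
    rw [e]
    exact h _ n.2
  | add a b ha hb => rw [map_add, map_add]; exact P.add_mem ha hb

theorem map_twist (φ : S →ₐ[k] T) (z : (S ⊗[k] A)ˣ) (N : BrSev.SBSet k A c S) (N' : BrSev.SBSet k A c T)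
    (hN' : N'.1.toSubmodule = (Module.Grassmannian.map φ N.1).toSubmodule) :
    Module.Grassmannian.map φ (twist z N).1 = (twist (Units.map (coeffHom (A := A) φ).toRingHom.toMonoidHom z) N').1 := by
  refine grass_eq_of_le _ _ (map_le_of_forall φ _ _ fun x hx => ?_)
  rw [mem_twist, Units.coe_map, hN']
  have h := mem_map φ N.1 (mem_twist.1 hx)
  rw [← coeffHom_apply, map_mul] at h
  exact h

end Groth.Agent.BrSev29
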